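import Groth.Agent.Lib.Weitz21.Sl2
import Mathlib.Algebra.MvPolynomial.Derivation
import Mathlib.RingTheory.MvPolynomial.Homogeneous
import Mathlib.RingTheory.Derivation.Lie
import Mathlib.RingTheory.Polynomial.Basic
import Mathlib.RingTheory.Finiteness.Subalgebra
import Mathlib.RingTheory.Adjoin.FG
import Mathlib.Algebra.Algebra.Subalgebra.Basic
import Mathlib.LinearAlgebra.FiniteDimensional.Lemmas
import Mathlib.Algebra.Order.BigOperators.Group.Finset

/-!
# Finite generation of the invariants of `sl₂` acting linearly on a polynomial ring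
-/

universe u

open MvPolynomial

namespace Groth.Agent.Weitz21

variable {k : Type u} [Field k] [CharZero k] {σ : Type*}

local notation "S" => MvPolynomial σ k

/-- The derivation measuring a weight. -/
noncomputable def euler (w : σ → ℤ) : Derivation k S S := mkDerivation k fun s => (w s : k) • X s

theorem euler_X (w : σ → ℤ) (s : σ) : euler (k := k) w (X s) = (w s : k) • X s := mkDerivation_X _ _ _

theorem euler_monomial (w : σ → ℤ) (e : σ →₀ ℕ) (c : k) :
    euler w (monomial e c) = ((Finsupp.weight w e : ℤ) : k) • monomial e c := by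
  induction e using Finsupp.induction generalizing c with
  | zero =>
    rw [map_zero, Int.cast_zero, zero_smul, monomial_zero', ← algebraMap_eq, Derivation.map_algebraMap]
  | single_add a b e ha hb ih =>
    have hm : (monomial (Finsupp.single a b + e) c : S) = X a ^ b * monomial e c := by
      rw [X_pow_eq_monomial, monomial_mul, one_mul]
    rw [hm, Derivation.leibniz, Derivation.leibniz_pow, euler_X, ih, map_add, Finsupp.weight_single]
    obtain ⟨b, rfl⟩ := Nat.exists_eq_succ_of_ne_zero hb
    rw [pow_succ]
    simp only [nsmul_eq_mul, zsmul_eq_mul, smul_eq_mul, Algebra.smul_def, map_add, map_mul, map_intCast, map_natCast,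
      Int.cast_add, Int.cast_mul, Int.cast_natCast, Nat.add_sub_cancel]
    push_cast [eq_natCast]
    ring

theorem coeff_euler (w : σ → ℤ) (p : S) (e : σ →₀ ℕ) :
    coeff e (euler w p) = ((Finsupp.weight w e : ℤ) : k) * coeff e p := by
  classical
  induction p using MvPolynomial.induction_on' with
  | monomial a c =>
    rw [euler_monomial, coeff_smul, smul_eq_mul, coeff_monomial]
    split_ifs with h
    · rw [h]
    · rw [mul_zero, mul_zero]
  | add p q hp hq => rw [map_add, coeff_add, coeff_add, hp, hq, mul_add]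

theorem euler_eq_iff (w : σ → ℤ) (p : S) (m : ℤ) :
    euler w p = (m : k) • p ↔ IsWeightedHomogeneous w p m := by
  constructor
  · intro h e he
    have := congrArg (coeff e) h
    rw [coeff_euler, coeff_smul, smul_eq_mul] at this
    exact_mod_cast mul_right_cancel₀ he this
  · intro h
    ext e
    rw [coeff_euler, coeff_smul, smul_eq_mul]
    by_cases he : coeff e p = 0
    · rw [he, mul_zero, mul_zero]
    · rw [h he]

theorem euler_comm (w : σ → ℤ) (D : Derivation k S S) (a : ℤ)
    (hD : ∀ s, IsWeightedHomogeneous w (D (X s)) (w s + a)) (p : S) :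
    euler w (D p) = D (euler w p) + (a : k) • D p := by
  have h : ⁅euler w, D⁆ = (a : k) • D := derivation_ext fun s => by
    rw [Derivation.commutator_apply, euler_X, Derivation.map_smul, (euler_eq_iff w _ _).2 (hD s), Derivation.smul_apply,
      Int.cast_add, add_smul, add_sub_cancel_left]
  have := DFunLike.congr_fun h p
  rw [Derivation.commutator_apply, Derivation.smul_apply] at this
  rw [← this, add_sub_cancel]

theorem map_weighted (w : σ → ℤ) (D : Derivation k S S) (a : ℤ)
    (hD : ∀ s, IsWeightedHomogeneous w (D (X s)) (w s + a)) {p : S} {m : ℤ} (hp : IsWeightedHomogeneous w p m) :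
    IsWeightedHomogeneous w (D p) (m + a) := by
  rw [← euler_eq_iff] at hp ⊢
  rw [euler_comm w D a hD, hp, Derivation.map_smul, Int.cast_add, add_smul]

theorem natCast_weighted_one {p : S} {d : ℕ} :
    IsWeightedHomogeneous (fun _ => (1 : ℤ)) p (d : ℤ) ↔ p.IsHomogeneous d := by
  have key : ∀ e : σ →₀ ℕ, Finsupp.weight (fun _ : σ => (1 : ℤ)) e = ((Finsupp.weight (1 : σ → ℕ) e : ℕ) : ℤ) :=
    fun e => by
      rw [Finsupp.weight_apply, Finsupp.weight_apply, Finsupp.sum, Finsupp.sum, Nat.cast_sum]
      exact Finset.sum_congr rfl fun s _ => by simp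
  constructor
  · intro h e he
    have := h he
    rw [key] at this
    exact_mod_cast this
  · intro h e he
    rw [key, h he]

theorem map_homogeneous (D : Derivation k S S) (hD : ∀ s, (D (X s)).IsHomogeneous 1) {p : S} {d : ℕ}
    (hp : p.IsHomogeneous d) : (D p).IsHomogeneous d := by
  rw [← natCast_weighted_one] at hp ⊢
  simpa using map_weighted (fun _ => 1) D 0 (fun s => by simpa using natCast_weighted_one.2 (hD s)) hp

/-- A linear action of `sl₂` on the variables. -/
structure Action (k : Type u) [Field k] (σ : Type*) where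
  /-- the weights -/
  w : σ → ℤ
  /-- raising -/
  E : Derivation k (MvPolynomial σ k) (MvPolynomial σ k)
  /-- lowering -/
  F : Derivation k (MvPolynomial σ k) (MvPolynomial σ k)
  E_lin : ∀ s, (E (X s)).IsHomogeneous 1
  F_lin : ∀ s, (F (X s)).IsHomogeneous 1
  E_wt : ∀ s, IsWeightedHomogeneous w (E (X s)) (w s + 2)
  F_wt : ∀ s, IsWeightedHomogeneous w (F (X s)) (w s - 2)
  comm : ∀ s, E (F (X s)) - F (E (X s)) = (w s : k) • X s

namespace Action

variable (A : Action k σ)

theorem comm_apply (p : S) : A.E (A.F p) = A.F (A.E p) + euler A.w p := by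
  have h : ⁅A.E, A.F⁆ = euler A.w := derivation_ext fun s => by
    rw [Derivation.commutator_apply, A.comm, euler_X]
  have := DFunLike.congr_fun h p
  rw [Derivation.commutator_apply] at this
  rw [← this, add_sub_cancel]

theorem H_E (p : S) : euler A.w (A.E p) = A.E (euler A.w p) + (2 : k) • A.E p := by
  simpa using euler_comm A.w A.E 2 A.E_wt p

theorem H_F (p : S) : euler A.w (A.F p) = A.F (euler A.w p) - (2 : k) • A.F p := by
  have := euler_comm A.w A.F (-2) (fun s => by simpa [sub_eq_add_neg] using A.F_wt s) p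
  rw [this]
  push_cast
  rw [neg_smul, sub_eq_add_neg]

section Fin

variable [Fintype σ]

omit [CharZero k] in
theorem weight_le {p : S} {m : ℤ} {d : ℕ} (hp : p ≠ 0) (hm : IsWeightedHomogeneous A.w p m)
    (hd : p.IsHomogeneous d) : |m| ≤ d * ∑ s, |A.w s| := by
  obtain ⟨e, he⟩ := exists_coeff_ne_zero hp
  rw [← hm he, ← hd he, Finsupp.weight_apply, Finsupp.weight_apply, Finsupp.sum_fintype _ _ (by simp),
    Finsupp.sum_fintype _ _ (by simp), Nat.cast_sum, Finset.sum_mul]
  refine (Finset.abs_sum_le_sum_abs _ _).trans (Finset.sum_le_sum fun s _ => ?_)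
  simp only [nsmul_eq_mul, Pi.one_apply, smul_eq_mul, mul_one, abs_mul, Nat.abs_cast, Nat.cast_id]
  exact mul_le_mul_of_nonneg_left (Finset.single_le_sum (fun t _ => abs_nonneg (A.w t)) (Finset.mem_univ s))
    (Nat.cast_nonneg _)

theorem pow_eq_zero (D : Derivation k S S) (a : ℤ) (ha : a ≠ 0)
    (hD : ∀ s, IsWeightedHomogeneous A.w (D (X s)) (A.w s + a)) (hD1 : ∀ s, (D (X s)).IsHomogeneous 1)
    (v : S) (m : ℤ) (hv : IsWeightedHomogeneous A.w v m) : ∃ N : ℕ, ((D : Module.End k S) ^ N) v = 0 := by
  classical
  refine ⟨(|m| + v.totalDegree * ∑ s, |A.w s|).toNat + 1, ?_⟩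
  generalize hN : (|m| + v.totalDegree * ∑ s, |A.w s|).toNat + 1 = N
  conv_lhs => rw [v.as_sum]
  rw [map_sum]
  refine Finset.sum_eq_zero fun e he => ?_
  have hme : IsWeightedHomogeneous A.w (monomial e (coeff e v)) m :=
    isWeightedHomogeneous_monomial _ _ _ (hv (mem_support_iff.1 he))
  have hde : (monomial e (coeff e v) : S).IsHomogeneous e.degree := isHomogeneous_monomial _ rfl
  have key : ∀ j : ℕ, IsWeightedHomogeneous A.w (((D : Module.End k S) ^ j) (monomial e (coeff e v))) (m + a * j) ∧
      (((D : Module.End k S) ^ j) (monomial e (coeff e v))).IsHomogeneous e.degree := by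
    intro j
    induction j with
    | zero => simp [hme, hde]
    | succ j ih =>
      rw [pow_succ', Module.End.mul_apply, Nat.cast_succ, mul_add, mul_one, ← add_assoc]
      exact ⟨map_weighted A.w D a hD ih.1, map_homogeneous D hD1 ih.2⟩
  by_contra hne
  have h1 := A.weight_le hne (key N).1 (key N).2
  have h2 : e.degree ≤ v.totalDegree := le_totalDegree he
  have h3 : (N : ℤ) > |m| + v.totalDegree * ∑ s, |A.w s| := by
    rw [← hN]; push_cast; omega
  have h4 : (N : ℤ) ≤ |a * N| := by
    rw [abs_mul, Nat.abs_cast]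
    exact le_mul_of_one_le_left (Nat.cast_nonneg N) (Int.one_le_abs ha)
  have h5 : |a * N| ≤ |m + a * N| + |m| := by
    calc |a * N| = |(m + a * N) - m| := by ring_nf
      _ ≤ |m + a * N| + |m| := abs_sub _ _
  have h6 : (e.degree : ℤ) * ∑ s, |A.w s| ≤ v.totalDegree * ∑ s, |A.w s| :=
    mul_le_mul_of_nonneg_right (by exact_mod_cast h2) (Finset.sum_nonneg fun s _ => abs_nonneg _)
  omega

theorem triple : Triple (A.E : Module.End k S) (A.F : Module.End k S) ((euler A.w : Derivation k S S) : Module.End k S) where
  he := A.H_E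
  hf := A.H_F
  ef := A.comm_apply
  nilpE v m h := A.pow_eq_zero A.E 2 (by norm_num) A.E_wt A.E_lin v m ((euler_eq_iff _ _ _).1 h)
  nilpF v m h := A.pow_eq_zero A.F (-2) (by norm_num) (fun s => by simpa [sub_eq_add_neg] using A.F_wt s) A.F_lin v m
    ((euler_eq_iff _ _ _).1 h)

/-- The Casimir operator. -/
noncomputable abbrev cas : Module.End k S :=
  casimir (A.E : Module.End k S) (A.F : Module.End k S) ((euler A.w : Derivation k S S) : Module.End k S)

theorem cas_weighted {p : S} {m : ℤ} (hp : IsWeightedHomogeneous A.w p m) : IsWeightedHomogeneous A.w (A.cas p) m := by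
  rw [← euler_eq_iff] at hp ⊢
  refine (A.triple.casimir_H p).trans ?_
  show A.cas (euler A.w p) = _
  rw [hp, map_smul]

theorem cas_weightedComponent (m : ℤ) (p : S) :
    weightedHomogeneousComponent A.w m (A.cas p) = A.cas (weightedHomogeneousComponent A.w m p) := by
  classical
  induction p using MvPolynomial.induction_on' with
  | monomial e c =>
    have hm : IsWeightedHomogeneous A.w (monomial e c) (Finsupp.weight A.w e) :=
      isWeightedHomogeneous_monomial _ _ _ rfl
    rcases eq_or_ne (Finsupp.weight A.w e) m with rfl | h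
    · rw [hm.weightedHomogeneousComponent_same, (A.cas_weighted hm).weightedHomogeneousComponent_same]
    · rw [hm.weightedHomogeneousComponent_ne _ (Ne.symm h), (A.cas_weighted hm).weightedHomogeneousComponent_ne _ (Ne.symm h), map_zero]
  | add p q hp hq => simp only [map_add, hp, hq]

theorem invariant_of_cas_sq {p : S} (h : A.cas (A.cas p) = 0) :
    A.E p = 0 ∧ A.F p = 0 ∧ euler A.w p = 0 := by
  classical
  have key : ∀ m, A.E (weightedHomogeneousComponent A.w m p) = 0 ∧ A.F (weightedHomogeneousComponent A.w m p) = 0 ∧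
      euler A.w (weightedHomogeneousComponent A.w m p) = 0 := by
    intro m
    by_cases h0 : weightedHomogeneousComponent A.w m p = 0
    · simp [h0]
    refine A.triple.eq_invariant (m := m) h0
      ((euler_eq_iff _ _ _).2 (weightedHomogeneousComponent_isWeightedHomogeneous (w := A.w) (φ := p) m)) ?_
    show A.cas (A.cas _) = 0
    rw [← A.cas_weightedComponent, ← A.cas_weightedComponent, h, map_zero]
  have hsum := finsum_weightedHomogeneousComponent (w := A.w) p
  have hfin := weightedHomogeneousComponent_finsupp (w := A.w) p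
  rw [finsum_eq_sum _ hfin] at hsum
  rw [← hsum, map_sum, map_sum, map_sum]
  exact ⟨Finset.sum_eq_zero fun m _ => (key m).1, Finset.sum_eq_zero fun m _ => (key m).2.1,
    Finset.sum_eq_zero fun m _ => (key m).2.2⟩

/-- The invariants. -/
noncomputable def inv : Subalgebra k S where
  carrier := {p | A.E p = 0 ∧ A.F p = 0}
  mul_mem' {a b} ha hb := by simp [Derivation.leibniz, ha.1, ha.2, hb.1, hb.2]
  one_mem' := by simp
  add_mem' {a b} ha hb := by simp [ha.1, ha.2, hb.1, hb.2]
  zero_mem' := by simp
  algebraMap_mem' c := by simp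

theorem mem_inv {p : S} : p ∈ A.inv ↔ A.E p = 0 ∧ A.F p = 0 := Iff.rfl

theorem euler_eq_zero {p : S} (hp : p ∈ A.inv) : euler A.w p = 0 := by
  have := A.comm_apply p
  rw [hp.1, hp.2, map_zero, map_zero, zero_add] at this
  exact this.symm

theorem cas_eq_zero {p : S} (hp : p ∈ A.inv) : A.cas p = 0 := by
  show euler A.w (euler A.w p) + (2 : k) • (A.E (A.F p) + A.F (A.E p)) = 0
  rw [A.euler_eq_zero hp, hp.1, hp.2]
  simp

theorem cas_mul {g : S} (hg : g ∈ A.inv) (p : S) : A.cas (g * p) = g * A.cas p := by
  have key : ∀ (D : Derivation k S S), D g = 0 → ∀ q, D (g * q) = g * D q := fun D hD q => by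
    rw [Derivation.leibniz, hD, smul_zero, add_zero, smul_eq_mul]
  show euler A.w (euler A.w (g * p)) + (2 : k) • (A.E (A.F (g * p)) + A.F (A.E (g * p))) =
    g * (euler A.w (euler A.w p) + (2 : k) • (A.E (A.F p) + A.F (A.E p)))
  rw [key _ (A.euler_eq_zero hg), key _ (A.euler_eq_zero hg), key _ hg.2, key _ hg.1, key _ hg.1, key _ hg.2,
    mul_add, ← mul_add g, mul_smul_comm]

theorem cas_homogeneous {p : S} {d : ℕ} (hp : p.IsHomogeneous d) : (A.cas p).IsHomogeneous d := by
  have hH : ∀ s, (euler (k := k) A.w (X s)).IsHomogeneous 1 := fun s => by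
    rw [euler_X, ← mem_homogeneousSubmodule]
    exact Submodule.smul_mem _ _ (isHomogeneous_X k s)
  rw [← mem_homogeneousSubmodule]
  show euler A.w (euler A.w p) + (2 : k) • (A.E (A.F p) + A.F (A.E p)) ∈ homogeneousSubmodule σ k d
  exact add_mem (map_homogeneous _ hH (map_homogeneous _ hH hp))
    (Submodule.smul_mem _ _ (add_mem (map_homogeneous _ A.E_lin (map_homogeneous _ A.F_lin hp))
      (map_homogeneous _ A.F_lin (map_homogeneous _ A.E_lin hp))))

theorem exists_decomp {b : S} {d : ℕ} (hb : b.IsHomogeneous d) :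
    ∃ u z : S, u ∈ A.inv ∧ u.IsHomogeneous d ∧ b = u + A.cas z := by
  have : Module.Finite k (homogeneousSubmodule σ k d) := Module.Finite.iff_fg.2 (by
    exact weightedHomogeneousSubmodule_fg k (1 : σ → ℕ) (fun _ => one_ne_zero) d)
  let C : Module.End k (homogeneousSubmodule σ k d) := A.cas.restrict fun p hp => A.cas_homogeneous hp
  have hdis : Disjoint (LinearMap.ker C) (LinearMap.range C) := by
    rw [Submodule.disjoint_def]
    rintro _ hv ⟨z, rfl⟩
    have hz : A.cas (A.cas z.1) = 0 := congrArg Subtype.val (LinearMap.mem_ker.1 hv)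
    exact Subtype.ext (A.cas_eq_zero ⟨(A.invariant_of_cas_sq hz).1, (A.invariant_of_cas_sq hz).2.1⟩)
  have htop : LinearMap.ker C ⊔ LinearMap.range C = ⊤ :=
    Submodule.eq_top_of_disjoint _ _ (by rw [add_comm, LinearMap.finrank_range_add_finrank_ker]) hdis
  have hbmem : (⟨b, hb⟩ : homogeneousSubmodule σ k d) ∈ LinearMap.ker C ⊔ LinearMap.range C := by
    rw [htop]; trivial
  obtain ⟨u, hu, _, ⟨z, rfl⟩, h⟩ := Submodule.mem_sup.1 hbmem
  have hu0 : A.cas u.1 = 0 := congrArg Subtype.val (LinearMap.mem_ker.1 hu)
  have hinv := A.invariant_of_cas_sq (p := u.1) (by rw [hu0, map_zero])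
  exact ⟨u.1, z.1, ⟨hinv.1, hinv.2.1⟩, u.2, (congrArg Subtype.val h).symm⟩

omit [CharZero k] [Fintype σ] in
theorem homogeneousComponent_mul_left {g : S} {e : ℕ} (hg : g.IsHomogeneous e) (b : S) (d : ℕ) :
    homogeneousComponent d (g * b) = if e ≤ d then g * homogeneousComponent (d - e) b else 0 := by
  classical
  induction b using MvPolynomial.induction_on' with
  | monomial a c =>
    have hm : (monomial a c : S).IsHomogeneous a.degree := isHomogeneous_monomial _ rfl
    rw [homogeneousComponent_of_mem (hg.mul hm), homogeneousComponent_of_mem hm]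
    split_ifs with h1 h2 h3 h4 <;> first | rfl | (exfalso; omega) | rw [mul_zero]
  | add p q hp hq =>
    simp only [mul_add, map_add, hp, hq]
    split_ifs <;> simp

theorem homogeneousComponent_mem {p : S} (hp : p ∈ A.inv) (d : ℕ) : homogeneousComponent d p ∈ A.inv := by
  classical
  have key : ∀ (D : Derivation k S S), (∀ s, (D (X s)).IsHomogeneous 1) → ∀ q,
      homogeneousComponent d (D q) = D (homogeneousComponent d q) := by
    intro D hD q
    induction q using MvPolynomial.induction_on' with
    | monomial e c =>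
      have hm : (monomial e c : S).IsHomogeneous e.degree := isHomogeneous_monomial _ rfl
      rw [homogeneousComponent_of_mem hm, homogeneousComponent_of_mem (map_homogeneous D hD hm)]
      split_ifs <;> simp
    | add p q hp hq => simp only [map_add, hp, hq]
  exact ⟨by rw [← key _ A.E_lin, hp.1, map_zero], by rw [← key _ A.F_lin, hp.2, map_zero]⟩

/-- The invariants are finitely generated. -/
theorem inv_fg : A.inv.FG := by
  classical
  let G : Set S := {p | p ∈ A.inv ∧ ∃ d : ℕ, 0 < d ∧ p.IsHomogeneous d}
  obtain ⟨s, hsG, hspan⟩ := (Submodule.fg_span_iff_fg_span_finset_subset G).1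
    (IsNoetherian.noetherian (Submodule.span S G))
  refine ⟨s, le_antisymm (Algebra.adjoin_le fun x hx => (hsG hx).1) ?_⟩
  have main : ∀ (d : ℕ) (f : S), f ∈ A.inv → f.IsHomogeneous d → f ∈ Algebra.adjoin k (s : Set S) := by
    intro d
    induction d using Nat.strong_induction_on with
    | _ d ih =>
      intro f hf hfd
      rcases Nat.eq_zero_or_pos d with rfl | hd
      · have : f = C (coeff 0 f) := totalDegree_eq_zero_iff_eq_C.1 (Nat.le_zero.1 hfd.totalDegree_le)
        rw [this]
        exact Subalgebra.algebraMap_mem _ _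
      have hfs : f ∈ Submodule.span S (s : Set S) := hspan ▸ Submodule.subset_span ⟨hf, d, hd, hfd⟩
      obtain ⟨b, hb⟩ := Submodule.mem_span_finset'.1 hfs
      choose dg hdg0 hdg using fun g : s => (hsG g.2).2
      -- take the component of degree `d`
      let b' : s → S := fun g => if dg g ≤ d then homogeneousComponent (d - dg g) (b g) else 0
      have hb' : f = ∑ g : s, g.1 * b' g := by
        rw [← homogeneousComponent_eq_self hfd, ← hb, map_sum]
        refine Finset.sum_congr rfl fun g _ => ?_
        rw [smul_eq_mul, mul_comm, homogeneousComponent_mul_left (hdg g)]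
        simp only [b']
        split_ifs <;> simp
      have hdec : ∀ g : s, ∃ u z : S, u ∈ Algebra.adjoin k (s : Set S) ∧ u ∈ A.inv ∧ b' g = u + A.cas z := by
        intro g
        simp only [b']
        split_ifs
        · obtain ⟨u, z, hu, hud, e⟩ := A.exists_decomp (homogeneousComponent_isHomogeneous (d - dg g) (b g))
          exact ⟨u, z, ih _ (by have := hdg0 g; omega) u hu hud, hu, e⟩
        · exact ⟨0, 0, zero_mem _, zero_mem _, by simp⟩
      choose u z hus hui huz using hdec
      have hgi : ∀ g : s, g.1 ∈ A.inv := fun g => (hsG g.2).1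
      have hg : f - ∑ g : s, g.1 * u g = A.cas (∑ g : s, g.1 * z g) := by
        rw [hb', ← Finset.sum_sub_distrib, map_sum]
        refine Finset.sum_congr rfl fun g _ => ?_
        rw [huz g, mul_add, add_sub_cancel_left, A.cas_mul (hgi g)]
      have hmem : f - ∑ g : s, g.1 * u g ∈ A.inv :=
        sub_mem hf (Subalgebra.sum_mem _ fun g _ => mul_mem (hgi g) (hui g))
      have hz : A.cas (A.cas (∑ g : s, g.1 * z g)) = 0 := by rw [← hg]; exact A.cas_eq_zero hmem
      have hz' : (∑ g : s, g.1 * z g) ∈ A.inv := ⟨(A.invariant_of_cas_sq hz).1, (A.invariant_of_cas_sq hz).2.1⟩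
      rw [A.cas_eq_zero hz', sub_eq_zero] at hg
      rw [hg]
      exact Subalgebra.sum_mem _ fun g _ => mul_mem (Algebra.subset_adjoin g.2) (hus g)
  intro f hf
  rw [← sum_homogeneousComponent f]
  exact Subalgebra.sum_mem _ fun i _ => main i _ (A.homogeneousComponent_mem hf i)
    (homogeneousComponent_isHomogeneous i f)

end Fin

end Action

end Groth.Agent.Weitz21
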