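import Mathlib.Algebra.Module.PID
import Mathlib.Algebra.Polynomial.Module.AEval
import Mathlib.RingTheory.AdjoinRoot
import Mathlib.LinearAlgebra.Basis.Defs
import Mathlib.LinearAlgebra.DFinsupp
import Groth.Agent.Lib.Weitz21.Poly

/-!
# Jordan chains of a nilpotent endomorphism
-/

universe u v

namespace Groth.Agent.Weitz21

open Polynomial DirectSum

/-- A nilpotent endomorphism has a basis of chains. -/
theorem exists_chain_basis {k : Type u} [Field k] {V : Type v} [AddCommGroup V] [Module k V] [Module.Finite k V]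
    (f : Module.End k V) (hf : IsNilpotent f) :
    ∃ (t : ℕ) (d : Fin t → ℕ) (b : Module.Basis (Σ i, Fin (d i)) k V), ∀ i (j : Fin (d i)),
      f (b ⟨i, j⟩) = if h : (j : ℕ) + 1 < d i then b ⟨i, ⟨j + 1, h⟩⟩ else 0 := by
  classical
  let M := Module.AEval k V f
  have hM : Module.IsTorsion' M (Submonoid.powers (X : k[X])) := fun {x} => by
    obtain ⟨N, hN⟩ := hf
    refine ⟨⟨X ^ N, N, rfl⟩, ?_⟩
    show (X ^ N : k[X]) • x = 0
    obtain ⟨v, rfl⟩ := (Module.AEval.of k V f).surjective x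
    rw [Module.AEval.X_pow_smul_of, hN, zero_smul, map_zero]
  obtain ⟨t, d, ⟨e⟩⟩ := Module.torsion_by_prime_power_decomposition (irreducible_X (R := k)) hM
  let bi : ∀ i, Module.Basis (Fin (d i)) k (k[X] ⧸ (k[X] ∙ (X : k[X]) ^ d i)) := fun i =>
    (AdjoinRoot.powerBasisAux' (monic_X_pow (R := k) (d i))).reindex (finCongr (natDegree_X_pow (d i)))
  let B : Module.Basis (Σ i, Fin (d i)) k (⨁ i, k[X] ⧸ (k[X] ∙ (X : k[X]) ^ d i)) := DFinsupp.basis bi
  let E : V ≃ₗ[k] ⨁ i, k[X] ⧸ (k[X] ∙ (X : k[X]) ^ d i) := (Module.AEval.of k V f).trans (e.restrictScalars k)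
  refine ⟨t, d, B.map E.symm, fun i j => ?_⟩
  have hbi : ∀ (j : Fin (d i)), bi i j = Submodule.Quotient.mk ((X : k[X]) ^ (j : ℕ)) := by
    intro j
    have := (AdjoinRoot.powerBasis' (monic_X_pow (R := k) (d i))).basis_eq_pow
      ((finCongr (natDegree_X_pow (R := k) (d i))).symm j)
    simp only [bi]
    erw [Module.Basis.reindex_apply]
    refine this.trans ?_
    simp only [AdjoinRoot.powerBasis'_gen]
    rw [← AdjoinRoot.mk_X, ← map_pow]
    rfl
  have hB : ∀ (j : Fin (d i)), B ⟨i, j⟩ = DirectSum.lof k[X] (Fin t) (fun i => k[X] ⧸ (k[X] ∙ (X : k[X]) ^ d i)) i (Submodule.Quotient.mk ((X : k[X]) ^ (j : ℕ))) := by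
    intro j
    rw [← hbi]
    apply B.repr.injective
    rw [Module.Basis.repr_self]
    ext ⟨i', j'⟩
    show _ = (bi i').repr ((DFinsupp.single i (bi i j) : Π₀ i, k[X] ⧸ (k[X] ∙ (X : k[X]) ^ d i)) i') j'
    rcases eq_or_ne i i' with rfl | h
    · rw [DFinsupp.single_eq_same, Module.Basis.repr_self]
      simp [Finsupp.single_apply]
    · rw [DFinsupp.single_eq_of_ne (Ne.symm h), map_zero, Finsupp.single_eq_of_ne (fun e => h (congrArg Sigma.fst e).symm)]
      rfl
  apply E.injective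
  have hEf : ∀ v, E (f v) = (X : k[X]) • E v := fun v => by
    show e (Module.AEval.of k V f (f v)) = (X : k[X]) • e (Module.AEval.of k V f v)
    rw [← map_smul, Module.AEval.X_smul_of]
    rfl
  rw [hEf, Module.Basis.map_apply, LinearEquiv.apply_symm_apply, hB, ← map_smul, ← Submodule.Quotient.mk_smul,
    smul_eq_mul, ← pow_succ']
  split_ifs with h
  · rw [Module.Basis.map_apply, LinearEquiv.apply_symm_apply, hB]
  · rw [map_zero, show (Submodule.Quotient.mk ((X : k[X]) ^ ((j : ℕ) + 1)) : k[X] ⧸ (k[X] ∙ (X : k[X]) ^ d i)) = 0 from ?_, map_zero]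
    rw [show (j : ℕ) + 1 = d i by omega]
    exact (Submodule.Quotient.mk_eq_zero _).2 (Submodule.mem_span_singleton_self _)

end Groth.Agent.Weitz21
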