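import Groth.Agent.Lib.Weitz21.Roberts
import Groth.Agent.Lib.Weitz21.Jordan
import Mathlib.LinearAlgebra.Matrix.ToLin

/-!
# Weitzenböck's theorem for a linear nilpotent derivation

A nilpotent endomorphism is the raising operator of a linear action of `sl₂` in a basis of chains.
-/

universe u

open MvPolynomial

namespace Groth.Agent.Weitz21

variable {k : Type u} [Field k] [CharZero k]

/-- The action of `sl₂` attached to chains of lengths `d`. -/
noncomputable def chainAction {t : ℕ} (d : Fin t → ℕ) : Action k (Σ i, Fin (d i)) where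
  w s := 2 * (s.2 : ℤ) + 1 - d s.1
  E := mkDerivation k fun s => if h : (s.2 : ℕ) + 1 < d s.1 then X ⟨s.1, ⟨s.2 + 1, h⟩⟩ else 0
  F := mkDerivation k fun s =>
    ((s.2 : ℕ) * (d s.1 - s.2) : k) • X ⟨s.1, ⟨(s.2 : ℕ) - 1, lt_of_le_of_lt (Nat.sub_le _ _) s.2.2⟩⟩
  E_lin s := by
    rw [mkDerivation_X]
    split_ifs
    · exact isHomogeneous_X k _
    · exact isHomogeneous_zero _ _ _
  F_lin s := by
    rw [mkDerivation_X]
    exact (homogeneousSubmodule _ k 1).smul_mem _ (isHomogeneous_X k _)
  E_wt s := by
    rw [mkDerivation_X]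
    split_ifs with h
    · convert isWeightedHomogeneous_X k _ _ using 1
      simp only
      push_cast
      ring
    · exact isWeightedHomogeneous_zero _ _ _
  F_wt s := by
    rw [mkDerivation_X]
    rcases Nat.eq_zero_or_pos (s.2 : ℕ) with h | h
    · rw [show ((s.2 : ℕ) : k) = 0 by rw [h, Nat.cast_zero], zero_mul, zero_smul]
      exact isWeightedHomogeneous_zero _ _ _
    · refine (weightedHomogeneousSubmodule k _ _).smul_mem _ ?_
      rw [mem_weightedHomogeneousSubmodule]
      convert isWeightedHomogeneous_X k _ _ using 1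
      simp only
      rw [Nat.cast_sub h]
      push_cast
      ring
  comm := by
    rintro ⟨i, ⟨j, hj⟩⟩
    simp only [mkDerivation_X, Derivation.map_smul]
    rcases j with _ | j
    · split_ifs with h
      all_goals simp only [mkDerivation_X, map_zero, Nat.cast_zero, zero_mul, zero_smul, zero_sub, neg_zero]
      · rw [← neg_smul]
        push_cast
        congr 1
        ring
      · have hd : ((d i : ℕ) : k) = 1 := by exact_mod_cast (show d i = 1 by omega)
        push_cast
        rw [hd]
        simp
    · simp only [Nat.add_sub_cancel]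
      rw [dif_pos hj]
      split_ifs with h
      all_goals simp only [mkDerivation_X, map_zero, Nat.add_sub_cancel, sub_zero, ← sub_smul]
      · push_cast
        congr 1
        ring
      · have hd : ((d i : ℕ) : k) = j + 2 := by exact_mod_cast (show d i = j + 2 by omega)
        push_cast
        rw [hd]
        congr 1
        ring

/-- The kernel of the derivation of a nilpotent matrix is finitely generated. -/
theorem fg_ker_of_nilpotent (n : ℕ) (M : Matrix (Fin n) (Fin n) k) (hM : IsNilpotent M) :
    ∃ S : Subalgebra k (MvPolynomial (Fin n) k), S.FG ∧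
      ∀ f : MvPolynomial (Fin n) k, f ∈ S ↔
        mkDerivation k (fun j : Fin n => ∑ i : Fin n, M i j • (X i : MvPolynomial (Fin n) k)) f = 0 := by
  classical
  set δ := mkDerivation k (fun j : Fin n => ∑ i : Fin n, M i j • (X i : MvPolynomial (Fin n) k)) with hδ
  obtain ⟨t, d, b, hb⟩ := exists_chain_basis (Matrix.toLinAlgEquiv' M) (hM.map _)
  let e := Pi.basisFun k (Fin n)
  let φ : (Fin n → k) →ₗ[k] MvPolynomial (Fin n) k := e.constr k X
  let ψ : (Fin n → k) →ₗ[k] MvPolynomial (Σ i, Fin (d i)) k := b.constr k X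
  let Φ : MvPolynomial (Σ i, Fin (d i)) k →ₐ[k] MvPolynomial (Fin n) k := aeval fun s => φ (b s)
  let Ψ : MvPolynomial (Fin n) k →ₐ[k] MvPolynomial (Σ i, Fin (d i)) k := aeval fun l => ψ (e l)
  have h₁ : Ψ.toLinearMap.comp φ = ψ := e.ext fun l => by simp [φ, Ψ]
  have h₂ : Φ.toLinearMap.comp ψ = φ := b.ext fun s => by simp [ψ, Φ]
  let eqv : MvPolynomial (Σ i, Fin (d i)) k ≃ₐ[k] MvPolynomial (Fin n) k :=
    AlgEquiv.ofAlgHom Φ Ψ
      (algHom_ext fun l => by
        show Φ (Ψ (X l)) = X l
        rw [show Ψ (X l) = ψ (e l) from aeval_X _ _]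
        exact (LinearMap.congr_fun h₂ (e l)).trans (e.constr_basis k X l))
      (algHom_ext fun s => by
        show Ψ (Φ (X s)) = X s
        rw [show Φ (X s) = φ (b s) from aeval_X _ _]
        exact (LinearMap.congr_fun h₁ (b s)).trans (b.constr_basis k X s))
  have hφ : ∀ v, δ (φ v) = φ (Matrix.toLinAlgEquiv' M v) := by
    intro v
    refine LinearMap.congr_fun (e.ext (f₁ := δ.toLinearMap.comp φ)
      (f₂ := φ.comp (Matrix.toLinAlgEquiv' M)) fun l => ?_) v
    show δ (φ (e l)) = φ (Matrix.toLinAlgEquiv' M (e l))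
    rw [show φ (e l) = X l from e.constr_basis k X l, hδ, mkDerivation_X,
      show φ = e.constr k X from rfl, Module.Basis.constr_apply_fintype]
    exact Finset.sum_congr rfl fun i _ => by simp [e]
  have hcomm : ∀ g, δ (Φ g) = Φ ((chainAction d).E g) := by
    intro g
    induction g using MvPolynomial.induction_on with
    | C a => simp [← algebraMap_eq]
    | add p q hp hq => simp only [map_add, hp, hq]
    | mul_X p s hp =>
      simp only [map_mul, Derivation.leibniz, map_add, smul_eq_mul, hp]
      congr 2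
      obtain ⟨i, j⟩ := s
      rw [show Φ (X ⟨i, j⟩) = φ (b ⟨i, j⟩) from aeval_X _ _, hφ, hb]
      simp only [chainAction, mkDerivation_X]
      split_ifs
      · exact (aeval_X (fun s => φ (b s)) _).symm
      · rw [map_zero, map_zero]
  obtain ⟨S₀, hfg, hS₀⟩ := (chainAction (k := k) d).exists_fg_ker
  refine ⟨S₀.map Φ, hfg.map _, fun f => ?_⟩
  constructor
  · rintro ⟨g, hg, rfl⟩
    exact (hcomm g).trans (by rw [(hS₀ g).1 hg, map_zero])
  · intro hf
    refine ⟨eqv.symm f, (hS₀ _).2 (eqv.injective ?_), eqv.apply_symm_apply f⟩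
    rw [map_zero]
    refine (hcomm _).symm.trans ?_
    show δ (eqv (eqv.symm f)) = 0
    rw [eqv.apply_symm_apply, hf]

end Groth.Agent.Weitz21
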