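import Groth.Agent.Lib.Weitz21.Poly
import Mathlib.Data.Nat.Factorial.Basic

/-!
# The transfer principle for `sl₂`

The kernel of the raising derivation on `k[V]` is the image of the invariants of `k[V ⊕ k²]` under evaluation at
`(1, 0)`; it is therefore finitely generated.
-/

universe u

open MvPolynomial

namespace Groth.Agent.Weitz21

variable {k : Type u} [Field k] [CharZero k] {ι : Type*}

namespace Action

variable (A : Action k ι)

local notation "ren" => rename (R := k) (Sum.inl : ι → ι ⊕ Fin 2)
local notation "xx" => (X (Sum.inr 0) : MvPolynomial (ι ⊕ Fin 2) k)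
local notation "yy" => (X (Sum.inr 1) : MvPolynomial (ι ⊕ Fin 2) k)

/-- The weights after adjoining the standard representation. -/
def pairW : ι ⊕ Fin 2 → ℤ := Sum.elim A.w ![-1, 1]

omit [CharZero k] in
theorem rename_weighted {f : MvPolynomial ι k} {m : ℤ} (h : IsWeightedHomogeneous A.w f m) :
    IsWeightedHomogeneous A.pairW (ren f) m := by
  classical
  induction h using IsWeightedHomogeneous.induction_on with
  | zero => rw [map_zero]; exact isWeightedHomogeneous_zero _ _ _
  | add p q _ _ hp hq => rw [map_add]; exact hp.add hq
  | monomial e r he =>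
    rw [rename_monomial]
    refine isWeightedHomogeneous_monomial _ _ _ ?_
    rw [Finsupp.weight_apply, Finsupp.sum_mapDomain_index (by simp) (by simp [add_mul]), ← he, Finsupp.weight_apply]
    rfl

/-- Adjoining the standard representation. -/
noncomputable def pair : Action k (ι ⊕ Fin 2) where
  w := A.pairW
  E := mkDerivation k (Sum.elim (fun s => ren (A.E (X s))) ![yy, 0])
  F := mkDerivation k (Sum.elim (fun s => ren (A.F (X s))) ![0, xx])
  E_lin := by
    intro s
    rw [mkDerivation_X]
    rcases s with s | s
    · exact (A.E_lin s).rename_isHomogeneous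
    · fin_cases s
      · exact isHomogeneous_X k _
      · exact isHomogeneous_zero _ _ _
  F_lin := by
    intro s
    rw [mkDerivation_X]
    rcases s with s | s
    · exact (A.F_lin s).rename_isHomogeneous
    · fin_cases s
      · exact isHomogeneous_zero _ _ _
      · exact isHomogeneous_X k _
  E_wt := by
    intro s
    rw [mkDerivation_X]
    rcases s with s | s
    · exact A.rename_weighted (A.E_wt s)
    · fin_cases s
      · simpa [pairW] using isWeightedHomogeneous_X k A.pairW (Sum.inr 1)
      · exact isWeightedHomogeneous_zero _ _ _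
  F_wt := by
    intro s
    rw [mkDerivation_X]
    rcases s with s | s
    · exact A.rename_weighted (A.F_wt s)
    · fin_cases s
      · exact isWeightedHomogeneous_zero _ _ _
      · simpa [pairW] using isWeightedHomogeneous_X k A.pairW (Sum.inr 0)
  comm := by
    intro s
    have key : ∀ (D : Derivation k (MvPolynomial ι k) (MvPolynomial ι k)) (g : Fin 2 → MvPolynomial (ι ⊕ Fin 2) k)
        (f : MvPolynomial ι k), mkDerivation k (Sum.elim (fun s => ren (D (X s))) g) (ren f) = ren (D f) := by
      intro D g f
      induction f using MvPolynomial.induction_on with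
      | C a => simp [rename_C, ← algebraMap_eq]
      | add p q hp hq => simp only [map_add, hp, hq]
      | mul_X p s hp =>
        simp only [map_mul, Derivation.leibniz, rename_X, mkDerivation_X, Sum.elim_inl, hp, map_add, smul_eq_mul]
    rcases s with s | s
    · simp only [mkDerivation_X, Sum.elim_inl, key, ← map_sub, A.comm, map_smul, rename_X, pairW]
    · fin_cases s <;> simp [pairW]

theorem pair_ren_E (f : MvPolynomial ι k) : A.pair.E (ren f) = ren (A.E f) := by
  induction f using MvPolynomial.induction_on with
  | C a => simp [rename_C, ← algebraMap_eq]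
  | add p q hp hq => simp only [map_add, hp, hq]
  | mul_X p s hp =>
    simp only [map_mul, Derivation.leibniz, rename_X, hp, map_add, smul_eq_mul]
    simp only [pair, mkDerivation_X, Sum.elim_inl]

theorem pair_ren_F (f : MvPolynomial ι k) : A.pair.F (ren f) = ren (A.F f) := by
  induction f using MvPolynomial.induction_on with
  | C a => simp [rename_C, ← algebraMap_eq]
  | add p q hp hq => simp only [map_add, hp, hq]
  | mul_X p s hp =>
    simp only [map_mul, Derivation.leibniz, rename_X, hp, map_add, smul_eq_mul]
    simp only [pair, mkDerivation_X, Sum.elim_inl]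

theorem pair_E_x : A.pair.E xx = yy := by simp [pair]

theorem pair_E_y : A.pair.E yy = 0 := by simp [pair]

theorem pair_F_x : A.pair.F xx = 0 := by simp [pair]

theorem pair_F_y : A.pair.F yy = xx := by simp [pair]

/-- Evaluation at `(1, 0)`. -/
noncomputable def ev : MvPolynomial (ι ⊕ Fin 2) k →ₐ[k] MvPolynomial ι k := aeval (Sum.elim X ![1, 0])

omit [CharZero k] in
theorem ev_ren (f : MvPolynomial ι k) : ev (ren f) = f := by
  rw [ev, aeval_rename, Sum.elim_comp_inl, aeval_X_left_apply]

theorem ev_E (G : MvPolynomial (ι ⊕ Fin 2) k) : ev (A.pair.E G) = A.E (ev G) := by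
  induction G using MvPolynomial.induction_on with
  | C a => simp [← algebraMap_eq]
  | add p q hp hq => simp only [map_add, hp, hq]
  | mul_X p s hp =>
    rcases s with s | s
    · simp only [map_mul, Derivation.leibniz, map_add, smul_eq_mul, hp]
      simp only [pair, mkDerivation_X, Sum.elim_inl, ev_ren]
      simp [ev]
    · simp only [map_mul, Derivation.leibniz, map_add, smul_eq_mul, hp]
      fin_cases s <;> simp [pair, ev]

variable [Fintype ι]

theorem exists_invariant_of_weighted {f : MvPolynomial ι k} {m : ℤ} (hf : IsWeightedHomogeneous A.w f m)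
    (h0 : A.E f = 0) : ∃ G ∈ A.pair.inv, ev G = f := by
  classical
  by_cases hf0 : f = 0
  · exact ⟨0, zero_mem _, by rw [map_zero, hf0]⟩
  obtain ⟨p, hpm, hp⟩ := A.triple.highest hf0 h0 ((euler_eq_iff _ _ _).2 hf)
  let P : ℕ → MvPolynomial ι k := fun j => ((A.F : Module.End k (MvPolynomial ι k)) ^ j) f
  have hPs : ∀ j, P (j + 1) = A.F (P j) := fun j => by
    show ((A.F : Module.End k (MvPolynomial ι k)) ^ (j + 1)) f = _
    rw [pow_succ', Module.End.mul_apply]
    rfl
  have hPE : ∀ j, A.E (P (j + 1)) = ((j + 1 : k) * ((p : k) - j)) • P j := fun j => by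
    refine (A.triple.E_pow_F h0 ((euler_eq_iff _ _ _).2 hf) j).trans ?_
    rw [← hpm]
    push_cast
    rfl
  let c : ℕ → k := fun j => (-1) ^ j / (j.factorial : k)
  have hc : ∀ j, c (j + 1) * (j + 1) = -c j := fun j => by
    simp only [c]
    have h1 : (j.factorial : k) ≠ 0 := Nat.cast_ne_zero.2 (Nat.factorial_ne_zero j)
    have h2 : (j + 1 : k) ≠ 0 := Nat.cast_add_one_ne_zero j
    rw [Nat.factorial_succ, Nat.cast_mul, Nat.cast_succ, pow_succ]
    field_simp
  let T : ℕ → MvPolynomial (ι ⊕ Fin 2) k := fun j => c j • (ren (P j) * xx ^ (p - j) * yy ^ j)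
  refine ⟨∑ j ∈ Finset.range (p + 1), T j, ⟨?_, ?_⟩, ?_⟩
  · let s : ℕ → MvPolynomial (ι ⊕ Fin 2) k := fun j =>
      (c j * ((p : k) - j)) • (ren (P j) * xx ^ (p - (j + 1)) * yy ^ (j + 1))
    have hT : ∀ N, N ≤ p → A.pair.E (∑ j ∈ Finset.range (N + 1), T j) = s N := by
      intro N hN
      induction N with
      | zero =>
        simp only [zero_add, Finset.range_one, Finset.sum_singleton, T, s, Derivation.map_smul, Derivation.leibniz,
          Derivation.leibniz_pow, pair_ren_E, pair_E_x, pair_E_y]
        rw [show A.E (P 0) = 0 from h0]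
        simp [c, Algebra.smul_def]
        ring
      | succ N ih =>
        rw [Finset.sum_range_succ, map_add, ih (by omega)]
        simp only [T, s, Derivation.map_smul, Derivation.leibniz, Derivation.leibniz_pow, pair_ren_E, pair_E_x, pair_E_y,
          hPE N]
        simp only [smul_zero,
          map_smul, smul_eq_mul, mul_zero, zero_add, add_zero, Nat.add_sub_cancel]
        rw [show c N = -(c (N + 1) * (N + 1)) by rw [hc, neg_neg]]
        obtain ⟨q, rfl⟩ : ∃ q, p = N + 1 + q := ⟨p - (N + 1), by omega⟩
        rw [show N + 1 + q - (N + 1) = q by omega, show N + 1 + q - (N + 1 + 1) = q - 1 by omega]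
        simp only [Algebra.smul_def, algebraMap_eq, map_mul, map_sub, map_neg, map_add, map_natCast, eq_natCast,
          map_one, Nat.cast_add, Nat.cast_one]
        ring
    rw [hT p le_rfl]
    simp [s]
  · let v : ℕ → MvPolynomial (ι ⊕ Fin 2) k := fun j => c j • (ren (P (j + 1)) * xx ^ (p - j) * yy ^ j)
    have hT : ∀ N, N ≤ p → A.pair.F (∑ j ∈ Finset.range (N + 1), T j) = v N := by
      intro N hN
      induction N with
      | zero =>
        simp only [zero_add, Finset.range_one, Finset.sum_singleton, T, v, Derivation.map_smul, Derivation.leibniz,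
          Derivation.leibniz_pow, pair_ren_F, pair_F_x, pair_F_y, hPs]
        simp [Algebra.smul_def, mul_comm, mul_left_comm]
      | succ N ih =>
        rw [Finset.sum_range_succ, map_add, ih (by omega)]
        simp only [T, v, Derivation.map_smul, Derivation.leibniz, Derivation.leibniz_pow, pair_ren_F, pair_F_x, pair_F_y,
          hPs]
        simp only [smul_zero,
          smul_eq_mul, mul_zero, zero_add, add_zero, Nat.add_sub_cancel]
        rw [show c N = -(c (N + 1) * (N + 1)) by rw [hc, neg_neg]]
        obtain ⟨q, rfl⟩ : ∃ q, p = N + 1 + q := ⟨p - (N + 1), by omega⟩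
        rw [show N + 1 + q - (N + 1) = q by omega, show N + 1 + q - N = q + 1 by omega]
        simp only [Algebra.smul_def, algebraMap_eq, map_mul, map_neg, map_add, map_natCast, eq_natCast, map_one,
          Nat.cast_add, Nat.cast_one]
        ring
    rw [hT p le_rfl]
    simp [v, P, hp]
  · rw [map_sum, Finset.sum_eq_single 0]
    · simp only [T, map_smul, map_mul, ev_ren, map_pow, P]
      simp [ev, c]
    · intro j _ hj
      simp only [T, map_smul, map_mul, map_pow]
      simp [ev, zero_pow hj]
    · intro h
      exact absurd (Finset.mem_range.2 (Nat.succ_pos p)) h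

/-- The kernel of the raising derivation is the image of the invariants. -/
theorem map_inv_eq : ∀ f, f ∈ A.pair.inv.map ev ↔ A.E f = 0 := by
  classical
  intro f
  constructor
  · rintro ⟨G, hG, rfl⟩
    show A.E (ev G) = 0
    rw [← A.ev_E, hG.1, map_zero]
  · intro hf
    have hcomp : ∀ m (g : MvPolynomial ι k),
        A.E (weightedHomogeneousComponent A.w m g) = weightedHomogeneousComponent A.w (m + 2) (A.E g) := by
      intro m g
      induction g using MvPolynomial.induction_on' with
      | monomial e r =>
        have hm : IsWeightedHomogeneous A.w (monomial e r) (Finsupp.weight A.w e) :=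
          isWeightedHomogeneous_monomial _ _ _ rfl
        have hE := map_weighted A.w A.E 2 A.E_wt hm
        rcases eq_or_ne (Finsupp.weight A.w e) m with rfl | h
        · rw [hm.weightedHomogeneousComponent_same, hE.weightedHomogeneousComponent_same]
        · rw [hm.weightedHomogeneousComponent_ne _ (Ne.symm h),
            hE.weightedHomogeneousComponent_ne _ (by omega), map_zero]
      | add p q hp hq =>
        simp only [map_add, hp, hq]
    have hsum := finsum_weightedHomogeneousComponent (w := A.w) f
    rw [finsum_eq_sum _ (weightedHomogeneousComponent_finsupp (w := A.w) f)] at hsum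
    rw [← hsum]
    refine Subalgebra.sum_mem _ fun m _ => ?_
    obtain ⟨G, hG, e⟩ := A.exists_invariant_of_weighted
      (weightedHomogeneousComponent_isWeightedHomogeneous (w := A.w) (φ := f) m) (by rw [hcomp, hf, map_zero])
    exact ⟨G, hG, e⟩

/-- The kernel of the raising derivation is finitely generated. -/
theorem exists_fg_ker : ∃ S : Subalgebra k (MvPolynomial ι k), S.FG ∧ ∀ f, f ∈ S ↔ A.E f = 0 :=
  ⟨A.pair.inv.map ev, A.pair.inv_fg.map _, A.map_inv_eq⟩

end Action

end Groth.Agent.Weitz21
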