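import Mathlib.LinearAlgebra.FiniteDimensional.Basic
import Mathlib.Algebra.Algebra.Bilinear
import Mathlib.Algebra.CharZero.Defs
import Mathlib.Tactic.Module
import Mathlib.Tactic.Abel
import Mathlib.Tactic.FieldSimp
import Mathlib.Tactic.LinearCombination
import Mathlib.Tactic.Ring

/-!
# Locally nilpotent representations of `sl₂`
-/

universe u v

namespace Groth.Agent.Weitz21

variable {k : Type u} [Field k] [CharZero k] {V : Type v} [AddCommGroup V] [Module k V]

/-- A locally nilpotent `sl₂`-triple of operators. -/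
structure Triple (E F H : Module.End k V) : Prop where
  he : ∀ v, H (E v) = E (H v) + (2 : k) • E v
  hf : ∀ v, H (F v) = F (H v) - (2 : k) • F v
  ef : ∀ v, E (F v) = F (E v) + H v
  nilpE : ∀ v m, H v = ((m : ℤ) : k) • v → ∃ N : ℕ, (E ^ N) v = 0
  nilpF : ∀ v m, H v = ((m : ℤ) : k) • v → ∃ N : ℕ, (F ^ N) v = 0

variable {E F H : Module.End k V}

theorem Triple.swap (T : Triple E F H) : Triple F E (-H) where
  he v := by simp only [LinearMap.neg_apply, map_neg, T.hf]; module
  hf v := by simp only [LinearMap.neg_apply, map_neg, T.he]; module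
  ef v := by rw [LinearMap.neg_apply, T.ef v]; abel
  nilpE v m h := T.nilpF v (-m) (by rw [LinearMap.neg_apply, neg_eq_iff_eq_neg] at h; rw [h]; simp)
  nilpF v m h := T.nilpE v (-m) (by rw [LinearMap.neg_apply, neg_eq_iff_eq_neg] at h; rw [h]; simp)

theorem Triple.H_pow_E (T : Triple E F H) {v : V} {m : k} (h : H v = m • v) (j : ℕ) :
    H ((E ^ j) v) = (m + 2 * j) • (E ^ j) v := by
  induction j with
  | zero => simpa using h
  | succ j ih =>
    rw [pow_succ', Module.End.mul_apply, T.he, ih, map_smul, Nat.cast_succ]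
    module

theorem Triple.H_pow_F (T : Triple E F H) {v : V} {m : k} (h : H v = m • v) (j : ℕ) :
    H ((F ^ j) v) = (m - 2 * j) • (F ^ j) v := by
  induction j with
  | zero => simpa using h
  | succ j ih =>
    rw [pow_succ', Module.End.mul_apply, T.hf, ih, map_smul, Nat.cast_succ]
    module

theorem Triple.E_pow_F (T : Triple E F H) {v : V} {m : k} (h0 : E v = 0) (h : H v = m • v) (j : ℕ) :
    E ((F ^ (j + 1)) v) = ((j + 1 : k) * (m - j)) • (F ^ j) v := by
  induction j with
  | zero => simp [pow_succ', Module.End.mul_apply, T.ef, h0, h]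
  | succ j ih =>
    rw [pow_succ' F (j + 1), Module.End.mul_apply, T.ef, ih, map_smul, ← Module.End.mul_apply F, ← pow_succ',
      T.H_pow_F h, ← add_smul]
    congr 1
    push_cast
    ring

/-- The weight of a highest weight vector is natural, and bounds its string. -/
theorem Triple.highest (T : Triple E F H) {v : V} {m : ℤ} (hv : v ≠ 0) (h0 : E v = 0)
    (h : H v = (m : k) • v) : ∃ p : ℕ, (p : ℤ) = m ∧ (F ^ (p + 1)) v = 0 := by
  classical
  have hex := T.nilpF v m h
  obtain ⟨p, hp⟩ : ∃ p, Nat.find hex = p + 1 :=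
    ⟨Nat.find hex - 1, by
      have : Nat.find hex ≠ 0 := fun e => hv (by simpa [e] using Nat.find_spec hex)
      omega⟩
  have hspec : (F ^ (p + 1)) v = 0 := hp ▸ Nat.find_spec hex
  have hmin : (F ^ p) v ≠ 0 := Nat.find_min hex (by omega)
  refine ⟨p, ?_, hspec⟩
  have := T.E_pow_F h0 h p
  rw [hspec, map_zero, eq_comm, smul_eq_zero, or_iff_left hmin, mul_eq_zero, sub_eq_zero] at this
  rcases this with h1 | h1
  · exact absurd h1 (Nat.cast_add_one_ne_zero p)
  · exact_mod_cast h1.symm

/-- The Casimir operator. -/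
def casimir (E F H : Module.End k V) : Module.End k V := H * H + (2 : k) • (E * F + F * E)

theorem casimir_apply (v : V) : casimir E F H v = H (H v) + (2 : k) • (E (F v) + F (E v)) := rfl

theorem casimir_swap : casimir F E (-H) = casimir E F H := by
  refine LinearMap.ext fun v => ?_
  simp only [casimir_apply, LinearMap.neg_apply, map_neg]
  module

theorem Triple.casimir_H (T : Triple E F H) (v : V) : H (casimir E F H v) = casimir E F H (H v) := by
  simp only [casimir_apply, map_add, map_sub, map_smul, T.he, T.hf]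
  module

theorem Triple.casimir_E (T : Triple E F H) (v : V) : E (casimir E F H v) = casimir E F H (E v) := by
  simp only [casimir_apply, map_add, map_sub, map_smul, T.ef, T.he, T.hf]
  module

/-- Weight vectors killed by the square of the Casimir operator are killed by `E` and have nonpositive weight. -/
theorem Triple.casimir_sq (T : Triple E F H) {v : V} {m : ℤ} (hv : v ≠ 0) (h : H v = (m : k) • v)
    (hc : casimir E F H (casimir E F H v) = 0) : ∃ j : ℕ, m = -2 * j ∧ (j = 0 → E v = 0) := by
  classical
  have hex := T.nilpE v m h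
  obtain ⟨j, hj⟩ : ∃ j, Nat.find hex = j + 1 :=
    ⟨Nat.find hex - 1, by
      have : Nat.find hex ≠ 0 := fun e => hv (by simpa [e] using Nat.find_spec hex)
      omega⟩
  have hspec : (E ^ (j + 1)) v = 0 := hj ▸ Nat.find_spec hex
  have hmin : (E ^ j) v ≠ 0 := Nat.find_min hex (by omega)
  let u := (E ^ j) v
  have hu : H u = ((m + 2 * (j : ℤ) : ℤ) : k) • u := by
    push_cast
    exact T.H_pow_E h j
  have hu0 : E u = 0 := by
    show E ((E ^ j) v) = 0
    rw [← Module.End.mul_apply, ← pow_succ', hspec]
  obtain ⟨p, hp, -⟩ := T.highest hmin hu0 hu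
  have hC : ∀ (j : ℕ) (w : V), casimir E F H ((E ^ j) w) = (E ^ j) (casimir E F H w) := fun j w => by
    induction j with
    | zero => simp
    | succ j ih => rw [pow_succ', Module.End.mul_apply, Module.End.mul_apply, ← T.casimir_E, ih]
  have hCu : casimir E F H u = ((p : k) * (p + 2)) • u := by
    rw [← hp] at hu
    rw [casimir_apply, hu, map_smul, hu, T.ef, hu0, map_zero, zero_add, add_zero, hu]
    push_cast
    module
  have hCCu : casimir E F H (casimir E F H u) = 0 := by
    show casimir E F H (casimir E F H ((E ^ j) v)) = 0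
    rw [hC, hC, hc, map_zero]
  rw [hCu, map_smul, hCu, smul_smul, smul_eq_zero, or_iff_left hmin, mul_self_eq_zero, mul_eq_zero] at hCCu
  have hp0 : p = 0 := by
    rcases hCCu with h1 | h1
    · exact_mod_cast h1
    · exact absurd (by exact_mod_cast h1 : p + 2 = 0) (by omega)
  subst hp0
  refine ⟨j, by simp at hp; omega, fun e => ?_⟩
  subst e
  simpa using hspec

/-- Weight vectors killed by the square of the Casimir operator are invariant. -/
theorem Triple.eq_invariant (T : Triple E F H) {v : V} {m : ℤ} (hv : v ≠ 0) (h : H v = (m : k) • v)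
    (hc : casimir E F H (casimir E F H v) = 0) : E v = 0 ∧ F v = 0 ∧ H v = 0 := by
  obtain ⟨j, hj, hE⟩ := T.casimir_sq hv h hc
  have h' : (-H) v = ((-m : ℤ) : k) • v := by rw [LinearMap.neg_apply, h]; simp
  obtain ⟨j', hj', hF⟩ := T.swap.casimir_sq hv h' (by rw [casimir_swap]; exact hc)
  obtain rfl : m = 0 := by omega
  exact ⟨hE (by omega), hF (by omega), by simpa using h⟩

end Groth.Agent.Weitz21
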